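import Mathlib.RingTheory.Filtration
import Mathlib.RingTheory.Flat.EquationalCriterion
import Mathlib.RingTheory.LocalRing.ResidueField.Basic
import Mathlib.LinearAlgebra.TensorProduct.Quotient
import Mathlib.Algebra.Homology.ShortComplex.ModuleCat
import Groth.Agent.KFlatLib.TorRing

/-!
# Exactness of a complex detected on the closed fibre of a flat local map

If `K⁰ → K¹ → K²` is exact modulo the maximal ideal of `R`, `K²` is `R`-flat and `K¹` is finite over
the Noetherian ring `S`, then it is exact.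
-/

set_option autoImplicit false

universe u

open CategoryTheory CategoryTheory.Limits TensorProduct MonoidalCategory

namespace KerBddLib

section Core

variable {R S : Type u} [CommRing R] [IsLocalRing R] [IsNoetherianRing R] [CommRing S]
  [IsNoetherianRing S] [Algebra R S]
  {K₀ K₁ K₂ : Type u} [AddCommGroup K₀] [AddCommGroup K₁] [AddCommGroup K₂] [Module S K₀]
  [Module S K₁] [Module S K₂] [Module R K₂] [IsScalarTower R S K₂] [Module.Flat R K₂]

/-- Coefficients of a relation on a minimal generating family are in the maximal ideal. -/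
theorem exists_minimal_generators (I : Ideal R) :
    ∃ (n : ℕ) (r : Fin n → R), Ideal.span (Set.range r) = I ∧
      ∀ c : Fin n → R, ∑ a, c a * r a = 0 → ∀ a, c a ∈ IsLocalRing.maximalIdeal R := by
  classical
  have hI : ∃ n, ∃ r : Fin n → R, Ideal.span (Set.range r) = I :=
    Submodule.fg_iff_exists_fin_generating_family.1 (IsNoetherian.noetherian I)
  obtain ⟨n, hn, hmin⟩ : ∃ n, (∃ r : Fin n → R, Ideal.span (Set.range r) = I) ∧
      ∀ m < n, ¬ ∃ r : Fin m → R, Ideal.span (Set.range r) = I :=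
    ⟨_, Nat.find_spec hI, fun m hm => Nat.find_min hI hm⟩
  obtain ⟨r, hr⟩ := hn
  refine ⟨n, r, hr, fun c hc a₀ => ?_⟩
  by_contra hu
  cases n with
  | zero => exact a₀.elim0
  | succ n =>
    obtain ⟨u, hu'⟩ := (IsLocalRing.notMem_maximalIdeal.1 hu)
    refine hmin n (Nat.lt_succ_self n) ⟨fun b => r (a₀.succAbove b), le_antisymm ?_ ?_⟩
    · rw [← hr]
      exact Ideal.span_mono (by rintro _ ⟨b, rfl⟩; exact ⟨_, rfl⟩)
    · rw [← hr, Ideal.span_le]
      rintro _ ⟨a, rfl⟩
      rcases eq_or_ne a a₀ with rfl | ha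
      · rw [Fin.sum_univ_succAbove _ a] at hc
        have hsum : ∑ b, c (a.succAbove b) * r (a.succAbove b) ∈
            Ideal.span (Set.range fun b => r (a.succAbove b)) :=
          Ideal.sum_mem _ fun b _ => Ideal.mul_mem_left _ _ (Ideal.subset_span ⟨b, rfl⟩)
        have h1 : c a * r a ∈ Ideal.span (Set.range fun b => r (a.succAbove b)) := by
          rw [eq_neg_of_add_eq_zero_left hc]
          exact Ideal.neg_mem_iff _ |>.2 hsum
        have h2 := Ideal.mul_mem_left _ ((u⁻¹ : Rˣ) : R) h1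
        rw [← hu', Units.inv_mul_cancel_left] at h2
        exact h2
      · obtain ⟨b, rfl⟩ := Fin.exists_succAbove_eq ha
        exact Ideal.subset_span ⟨b, rfl⟩

set_option maxHeartbeats 1000000 in
/-- The closed fibre of the source controls exactness. -/
theorem exact_of_closedFibre [Module.Finite S K₁] (a : K₀ →ₗ[S] K₁) (b : K₁ →ₗ[S] K₂)
    (hab : b ∘ₗ a = 0)
    (hJ : (IsLocalRing.maximalIdeal R).map (algebraMap R S) ≤ (⊥ : Ideal S).jacobson)
    (h : ∀ w, b w ∈ ((IsLocalRing.maximalIdeal R).map (algebraMap R S)) • (⊤ : Submodule S K₂) →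
      w ∈ LinearMap.range a ⊔ ((IsLocalRing.maximalIdeal R).map (algebraMap R S)) • (⊤ : Submodule S K₁)) :
    Function.Exact a b := by
  set m := IsLocalRing.maximalIdeal R
  set J := m.map (algebraMap R S)
  have step : ∀ (j : ℕ) (x : K₁), b x = 0 → x ∈ LinearMap.range a ⊔ J ^ j • (⊤ : Submodule S K₁) := by
    intro j
    induction j with
    | zero =>
      intro x _
      rw [pow_zero, Ideal.one_eq_top, Submodule.top_smul]
      exact Submodule.mem_sup_right trivial
    | succ j ih =>
      intro x hx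
      obtain ⟨y, hy, z, hz, rfl⟩ := Submodule.mem_sup.1 (ih x hx)
      obtain ⟨y', rfl⟩ := hy
      obtain ⟨n, r, hr, hmin⟩ := exists_minimal_generators (m ^ j)
      have hJj : J ^ j = Ideal.span (Set.range fun i => algebraMap R S (r i)) := by
        rw [← Ideal.map_pow, ← hr, Ideal.map_span, ← Set.range_comp]
        rfl
      rw [hJj] at hz
      obtain ⟨w, rfl⟩ : ∃ w : Fin n → K₁, ∑ i, algebraMap R S (r i) • w i = z := by
        refine Submodule.smul_induction_on hz (fun s hs k _ => ?_) ?_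
        · obtain ⟨c, rfl⟩ := Ideal.mem_span_range_iff_exists_fun.1 hs
          exact ⟨fun i => c i • k, by simp only [Finset.sum_smul, smul_smul, mul_comm]⟩
        · rintro _ _ ⟨w₁, rfl⟩ ⟨w₂, rfl⟩
          exact ⟨w₁ + w₂, by simp only [Pi.add_apply, smul_add, Finset.sum_add_distrib]⟩
      have hrel : ∑ i, r i • b (w i) = 0 := by
        rw [map_add, ← LinearMap.comp_apply, hab, LinearMap.zero_apply, zero_add, map_sum] at hx
        simpa [map_smul, IsScalarTower.algebraMap_smul] using hx
      obtain ⟨l, g, u, hu, hg⟩ :=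
        Module.Flat.isTrivialRelation_of_sum_smul_eq_zero hrel
      have hw : ∀ i, w i ∈ LinearMap.range a ⊔ J • (⊤ : Submodule S K₁) := fun i => h (w i) (by
        rw [show b (w i) = _ from hu i]
        refine Submodule.sum_mem _ fun k _ => ?_
        rw [← IsScalarTower.algebraMap_smul S (g i k) (u k)]
        refine Submodule.smul_mem_smul (Ideal.mem_map_of_mem _ ?_) Submodule.mem_top
        exact hmin (fun i => g i k) (by simpa [mul_comm] using hg k) i)
      refine Submodule.add_mem _ (Submodule.mem_sup_left ⟨y', rfl⟩)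
        (Submodule.sum_mem _ fun i _ => ?_)
      obtain ⟨p, ⟨p', rfl⟩, q, hq, e⟩ := Submodule.mem_sup.1 (hw i)
      rw [← e, smul_add, ← map_smul]
      refine Submodule.add_mem _ (Submodule.mem_sup_left ⟨_, rfl⟩) (Submodule.mem_sup_right ?_)
      rw [pow_succ, Submodule.mul_smul]
      refine Submodule.smul_mem_smul ?_ hq
      rw [← Ideal.map_pow, ← hr]
      exact Ideal.mem_map_of_mem _ (Ideal.subset_span ⟨i, rfl⟩)
  intro x
  refine ⟨fun hx => ?_, ?_⟩
  · change x ∈ LinearMap.range a
    rw [← Submodule.Quotient.mk_eq_zero]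
    have hmem : ((LinearMap.range a).mkQ x) ∈ (⨅ j, J ^ j • (⊤ : Submodule S (K₁ ⧸ LinearMap.range a))) := by
      refine (Submodule.mem_iInf _).2 fun j => ?_
      obtain ⟨p, hp, q, hq, rfl⟩ := Submodule.mem_sup.1 (step j x hx)
      rw [map_add, Submodule.mkQ_apply, (Submodule.Quotient.mk_eq_zero _).2 hp, zero_add]
      exact Submodule.smul_mono le_rfl le_top ((Submodule.map_smul'' (J ^ j) ⊤ _).le ⟨q, hq, rfl⟩)
    rw [Ideal.iInf_pow_smul_eq_bot_of_le_jacobson (M := K₁ ⧸ LinearMap.range a) J hJ] at hmem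
    exact hmem
  · rintro ⟨y, rfl⟩
    exact LinearMap.congr_fun hab y

end Core

section Tmul

variable {S : Type u} [CommRing S]

theorem tmul_eq_zero_iff {M N : Type u} [AddCommGroup M] [Module S M] [AddCommGroup N] [Module S N]
    (q : S →ₗ[S] N) (hq : Function.Surjective q) (J : Ideal S) (hker : LinearMap.ker q = J) (w : M) :
    w ⊗ₜ[S] q 1 = 0 ↔ w ∈ J • (⊤ : Submodule S M) := by
  subst hker
  let e : N ≃ₗ[S] S ⧸ LinearMap.ker q := (q.quotKerEquivOfSurjective hq).symm
  let ψ := (TensorProduct.congr (LinearEquiv.refl S M) e).trans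
    (tensorQuotEquivQuotSMul M (LinearMap.ker q))
  have h1 : ψ (w ⊗ₜ q 1) = Submodule.Quotient.mk w := by
    have he : e (q 1) = Submodule.Quotient.mk 1 := by
      rw [LinearEquiv.symm_apply_eq]
      rfl
    simp only [ψ, LinearEquiv.trans_apply, TensorProduct.congr_tmul, LinearEquiv.refl_apply, he]
    exact (tensorQuotEquivQuotSMul_tmul_mk (LinearMap.ker q) w 1).trans (by rw [one_smul])
  rw [← ψ.map_eq_zero_iff, h1, Submodule.Quotient.mk_eq_zero]

theorem exists_tmul {M N : Type u} [AddCommGroup M] [Module S M] [AddCommGroup N] [Module S N]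
    (q : S →ₗ[S] N) (hq : Function.Surjective q) (t : M ⊗[S] N) : ∃ y : M, y ⊗ₜ[S] q 1 = t := by
  induction t using TensorProduct.induction_on with
  | zero => exact ⟨0, zero_tmul _ _⟩
  | tmul x n =>
    obtain ⟨s, rfl⟩ := hq n
    refine ⟨s • x, ?_⟩
    rw [smul_tmul, ← map_smul, smul_eq_mul, mul_one]
  | add x y hx hy =>
    obtain ⟨x', rfl⟩ := hx
    obtain ⟨y', rfl⟩ := hy
    exact ⟨x' + y', add_tmul _ _ _⟩

/-- `s ↦ s ⊗ q(1)`. -/
theorem exists_extend {R : Type u} [CommRing R] [Algebra R S] {N : Type u} [AddCommGroup N] [Module R N]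
    (q : R →ₗ[R] N) (hq : Function.Surjective q) :
    ∃ q' : S →ₗ[S] S ⊗[R] N, Function.Surjective q' ∧
      LinearMap.ker q' = Ideal.map (algebraMap R S) (LinearMap.ker q) := by
  let q' : S →ₗ[S] (S ⊗[R] N) := (LinearMap.id : S →ₗ[S] S).smulRight ((1 : S) ⊗ₜ[R] q 1)
  have hq' : ∀ s, q' s = s ⊗ₜ[R] q 1 := fun s => by simp [q', TensorProduct.smul_tmul']
  refine ⟨q', fun t => (exists_tmul q hq t).imp fun y hy => (hq' y).trans hy, Ideal.ext fun s => ?_⟩
  rw [LinearMap.mem_ker, hq' s, tmul_eq_zero_iff q hq _ rfl, Ideal.smul_top_eq_map]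
  rfl

end Tmul

section Complex

variable {R S : Type u} [CommRing R] [IsLocalRing R] [IsNoetherianRing R] [CommRing S]
  [IsNoetherianRing S] [Algebra R S]

/-- Homology vanishes when it does on the closed fibre. -/
theorem isZero_homology_of_closedFibre (E : CochainComplex (ModuleCat.{u} S) ℤ) (i : ℤ)
    [Module.Finite S (E.X i)] (hfl : Module.Flat S (E.X (i + 1))) [Module.Flat R S]
    (hJ : (IsLocalRing.maximalIdeal R).map (algebraMap R S) ≤ (⊥ : Ideal S).jacobson)
    (N : ModuleCat.{u} S) (q : S →ₗ[S] N) (hq : Function.Surjective q)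
    (hker : LinearMap.ker q = (IsLocalRing.maximalIdeal R).map (algebraMap R S))
    (h : IsZero ((KFlatLib.tensorN E N).homology i)) : IsZero (E.homology i) := by
  rw [← HomologicalComplex.exactAt_iff_isZero_homology, HomologicalComplex.exactAt_iff' _ (i - 1) i (i + 1)
    (by simp) (by simp), ShortComplex.moduleCat_exact_iff] at h
  rw [← HomologicalComplex.exactAt_iff_isZero_homology, HomologicalComplex.exactAt_iff' _ (i - 1) i (i + 1)
    (by simp) (by simp)]
  letI : Module R (E.X (i + 1)) := Module.compHom _ (algebraMap R S)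
  haveI : IsScalarTower R S (E.X (i + 1)) := .of_algebraMap_smul fun _ _ => rfl
  haveI : Module.Flat R (E.X (i + 1)) := Module.Flat.trans R S (E.X (i + 1))
  refine (ShortComplex.ShortExact.moduleCat_exact_iff_function_exact (E.sc' (i - 1) i (i + 1))).2 ?_
  refine exact_of_closedFibre (R := R) (E.d (i - 1) i).hom (E.d i (i + 1)).hom
    (by rw [← ModuleCat.hom_comp, E.d_comp_d, ModuleCat.hom_zero]) hJ fun w hw => ?_
  have hw0 : ((KFlatLib.tensorN E N).d i (i + 1)).hom (w ⊗ₜ[S] q 1) = 0 :=
    (tmul_eq_zero_iff q hq _ hker _).2 hw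
  obtain ⟨t, ht⟩ := h _ hw0
  obtain ⟨y, rfl⟩ := exists_tmul q hq t
  have hd : (w - (E.d (i - 1) i).hom y) ⊗ₜ[S] q 1 = 0 := by
    rw [sub_tmul, sub_eq_zero]
    exact ht.symm
  exact Submodule.mem_sup.2 ⟨_, ⟨y, rfl⟩, _, (tmul_eq_zero_iff q hq _ hker _).1 hd,
    add_sub_cancel _ _⟩

end Complex

end KerBddLib
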