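import Groth.Agent.AffPushPCLib.Main
import Groth.Agent.DCohRestrLib.Support
import Groth.Agent.KFlatLib.LpullComp
import Groth.Agent.TildeDerLib.Affine
import Groth.Agent.PerfLib.Coherent

/-!
# Cohomology sheaves seen after an affine direct image, degree by degree
-/

set_option autoImplicit false
set_option backward.isDefEq.respectTransparency false
set_option backward.isDefEq.respectTransparency.types false
set_option maxHeartbeats 1000000
set_option linter.style.haveILetI false

universe u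

open CategoryTheory CategoryTheory.Limits AlgebraicGeometry Opposite
open Groth.Agent Groth.Agent.DerLib

attribute [local instance] HasDerivedCategory.standard

namespace KerBddLib

theorem isZero_of_map_isZero {C D : Type*} [Category C] [Category D] [HasZeroMorphisms C]
    [HasZeroMorphisms D] (F : C ⥤ D) [F.Faithful] [F.PreservesZeroMorphisms] {M : C}
    (h : IsZero (F.obj M)) : IsZero M :=
  (IsZero.iff_id_eq_zero M).2 (F.map_injective (h.eq_of_src _ _))

variable {X Y : Scheme.{u}}

/-- An affine direct image detects each cohomology sheaf. -/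
theorem isZero_HD_of_rpush_affine (f : X ⟶ Y) [IsAffineHom f] [DCoh.HasRpush f] (E : DCoh.D X)
    (hE : DCoh.IsQCohD E) (i : ℤ) (h : IsZero (DCoh.HD ((DCoh.Rpush f).obj E) i)) :
    IsZero (DCoh.HD E i) := by
  refine (DCohRestrLib.isZero_iff_support_empty _).2 (Set.eq_empty_iff_forall_notMem.2 fun x hx => ?_)
  obtain ⟨V, hV, hxV, -⟩ := exists_isAffineOpen_mem_and_subset (x := f x) (U := (⊤ : Y.Opens)) trivial
  obtain ⟨A, B, j, _, k, _, φ, -, hrk, -, hch⟩ := AffPushPCLib.exists_chart f V hV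
  haveI : PreservesFiniteLimits (tilde.functor A) := HensSchLib.tilde_preservesFiniteLimits _
  haveI : PreservesFiniteLimits (tilde.functor B) := HensSchLib.tilde_preservesFiniteLimits _
  obtain ⟨M, ⟨eM⟩⟩ := (TildeDerLib.isQCohD_iff B _).1 (AffPushPCLib.isQCohD_res k hE)
  obtain ⟨c⟩ := hch E M ⟨eM.symm⟩
  have h₁ : IsZero (DCoh.HD ((DCoh.tildeD A).obj ((DRing.restrictD φ.hom).obj M)) i) :=
    (((PerfLib.res j).map_isZero h).of_iso (PerfLib.resHDIso j _ i)).of_iso
      ((DerivedCategory.homologyFunctor _ i).mapIso c).symm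
  have h₂ : IsZero ((DerivedCategory.homologyFunctor _ i).obj M) :=
    isZero_of_map_isZero (ModuleCat.restrictScalars.{u} φ.hom)
      ((isZero_of_map_isZero (tilde.functor A) (h₁.of_iso (TildeDerLib.tildeHIso A i _).symm)).of_iso
        ((ExactHomology.homologyIso (ModuleCat.restrictScalars.{u} φ.hom) i).app M).symm)
  have h₃ : IsZero ((PerfLib.res k).obj (DCoh.HD E i)) :=
    (((tilde.functor B).map_isZero h₂).of_iso (TildeDerLib.tildeHIso B i M)).of_iso
      ((PerfLib.resHDIso k E i).symm ≪≫ (DerivedCategory.homologyFunctor _ i).mapIso eM.symm)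
  obtain ⟨w, hw⟩ : x ∈ Set.range k := by rw [hrk]; exact hxV
  refine hx ?_
  rw [← hw]
  exact (DCohRestrLib.subsingleton_stalk_restrict k _ w).1
    ((DCohRestrLib.isZero_iff_subsingleton_stalks _).1 h₃ w)

/-- The same for a morphism affine near the support. -/
theorem isZero_HD_of_supported {P : Scheme.{u}} (p : P ⟶ Y) [DCoh.HasRpush p] (W : P.Opens)
    [IsAffineHom (W.ι ≫ p)] (Z : Set P) (hZ : IsClosed Z) (hZW : Z ⊆ (W : Set P)) (T : DCoh.D P)
    (hT : DCoh.IsQCohD T) (hsupp : ∀ j : ℤ, CohB1.support (DCoh.HD T j) ⊆ Z) (i : ℤ)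
    (h : IsZero (DCoh.HD ((DCoh.Rpush p).obj T) i)) : IsZero (DCoh.HD T i) := by
  haveI := DCohRestrLib.hasRpush W.ι
  haveI := DCohRestrLib.hasRpush (W.ι ≫ p)
  haveI := KFlatLib.hasLpull W.ι
  haveI := KFlatLib.hasLpull p
  haveI := KFlatLib.hasLpull (W.ι ≫ p)
  obtain ⟨e⟩ := DCohRestrLib.nonempty_iso_Rpush_restrict W Z hZ hZW T hsupp
  obtain ⟨c⟩ := KFlatLib.rpush_comp W.ι p
  have h₁ : IsZero (DCoh.HD ((DCoh.restrictD W.ι).obj T) i) :=
    isZero_HD_of_rpush_affine (W.ι ≫ p) _ (AffPushPCLib.isQCohD_res W.ι hT) i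
      (h.of_iso ((DerivedCategory.homologyFunctor _ i).mapIso
        ((c.app _).symm ≪≫ (DCoh.Rpush p).mapIso e.symm)))
  refine (DCohRestrLib.isZero_iff_support_empty _).2 (Set.eq_empty_iff_forall_notMem.2 fun x hx => ?_)
  refine hx ((DCohRestrLib.subsingleton_stalk_restrict W.ι _ ⟨x, hZW (hsupp i hx)⟩).1 ?_)
  exact (DCohRestrLib.isZero_iff_subsingleton_stalks _).1
    (h₁.of_iso (DCohRestrLib.restrictHDIso W.ι T i).symm) _

end KerBddLib
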