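import Groth.Agent.KerBddLib.Alg
import Groth.Agent.PerfDualLib.Props
import Groth.Agent.KFlatLib.LpullTensor
import Groth.Agent.PerfLib.Coherent
import Groth.Agent.ProjFormLib.Frame

/-!
# A perfect object detected on the fibre of a flat morphism
-/

set_option autoImplicit false
set_option backward.isDefEq.respectTransparency false
set_option backward.isDefEq.respectTransparency.types false
set_option maxHeartbeats 1000000
set_option linter.style.haveILetI false

universe u

open CategoryTheory CategoryTheory.Limits AlgebraicGeometry Opposite MonoidalCategory TensorProduct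
open HomologicalComplex
open Groth.Agent Groth.Agent.DerLib Groth.Agent.PerfDualLib

attribute [local instance] HasDerivedCategory.standard

namespace KerBddLib

/-- `s ↦ s ⊗ q(1)`. -/
theorem exists_extend_quotient {R S : CommRingCat.{u}} (φ : R ⟶ S) (N : ModuleCat.{u} R)
    (q : R →ₗ[R] N) (hq : Function.Surjective q) :
    ∃ q' : S →ₗ[S] ((ModuleCat.extendScalars.{u, u, u} φ.hom).obj N), Function.Surjective q' ∧
      LinearMap.ker q' = Ideal.map φ.hom (LinearMap.ker q) := by
  letI : Algebra R S := φ.hom.toAlgebra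
  obtain ⟨q', h₁, h₂⟩ := exists_extend (S := S) q hq
  exact ⟨q', h₁, h₂⟩

variable {P X : Scheme.{u}}

/-- The derived tensor with a sheaf lives on its support. -/
theorem support_lTensorMod_subset (G : P.Modules) [DCoh.HasLTensorMod G] (K : DCoh.D P) (j : ℤ) :
    CohB1.support (DCoh.HD ((DCoh.LTensorMod G).obj K) j) ⊆ CohB1.support G := by
  intro z hz hs
  refine hz ?_
  obtain ⟨Q₀, hQ, ⟨e⟩⟩ := KFlatLib.exists_good_rep K
  let C := (KFlatLib.tensorModCx G).obj Q₀
  let eH : DCoh.HD ((DCoh.LTensorMod G).obj K) j ≅ C.homology j :=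
    (DerivedCategory.homologyFunctor _ j).mapIso ((DCoh.LTensorMod G).mapIso e.symm ≪≫
      KFlatLib.lTensorModObjIso G Q₀ hQ.1) ≪≫ (DerivedCategory.homologyFunctorFactors _ j).app C
  refine (DCohRestrLib.subsingleton_stalk_of_iso eH z).2 ?_
  haveI := hs
  have hG : IsZero ((DerSch.stalkFunctor P z).obj G) :=
    @ModuleCat.isZero_of_subsingleton _ _ _ ‹_›
  have hX : ∀ n, IsZero (((KFlatLib.stalkCx P z).obj C).X n) := fun n =>
    (((curriedTensor (ModuleCat.{u} (P.presheaf.stalk z))).obj _).map_isZero hG).of_iso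
      ((KFlatLib.stalkTensorRightIso z G).app (Q₀.X n)).symm
  exact ModuleCat.subsingleton_of_isZero ((ShortComplex.exact_iff_isZero_homology _).1
    (ShortComplex.exact_of_isZero_X₂ _ (hX j))
    |>.of_iso ((C.sc j).mapHomologyIso (DerSch.stalkFunctor P z)).symm)

/-- Naturality of `pullθ`, as an isomorphism of complexes. -/
noncomputable def pullTensorModCxIso {Y : Scheme.{u}} (f : Y ⟶ P) (G : P.Modules)
    (C : CochainComplex P.Modules ℤ) :
    (KFlatLib.pullCx f).obj ((KFlatLib.tensorModCx G).obj C) ≅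
      (KFlatLib.tensorModCx ((Scheme.Modules.pullback f).obj G)).obj ((KFlatLib.pullCx f).obj C) :=
  Hom.isoOfComponents (fun n => asIso (KFlatLib.pullθ f (C.X n) G))
    (fun i j _ => (KFlatLib.pullθ_natural_left f (C.d i j) G).symm)

/-- A perfect object has no `i`-th cohomology at `z` if its fibre has none. -/
theorem notMem_support_of_fibre [IsLocallyNoetherian P] [IsLocallyNoetherian X] (h : P ⟶ X) [Flat h]
    (K : DCoh.D P) (hK : DCoh.IsPerfect K) (z : P) (F : X.Modules)
    (q : (X.presheaf.stalk (h z)) →ₗ[X.presheaf.stalk (h z)] ((DerSch.stalkFunctor X (h z)).obj F))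
    (hq : Function.Surjective q) (hker : LinearMap.ker q = IsLocalRing.maximalIdeal (X.presheaf.stalk (h z)))
    [DCoh.HasLTensorMod ((Scheme.Modules.pullback h).obj F)] (i : ℤ)
    (hz : IsZero (DCoh.HD ((DCoh.LTensorMod ((Scheme.Modules.pullback h).obj F)).obj K) i)) :
    z ∉ CohB1.support (DCoh.HD K i) := by
  obtain ⟨Q₀, hQ, ⟨e⟩⟩ := KFlatLib.exists_good_rep K
  obtain ⟨U, hzU, E, a, b, hE0, hEf, ⟨eE⟩⟩ := exists_free_nbhd (PerfLib.isPerfect_of_iso e.symm hK) z
  let G := (Scheme.Modules.pullback h).obj F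
  let v : (U : Scheme.{u}) := ⟨z, hzU⟩
  let g := U.ι ≫ h
  let G' := (Scheme.Modules.pullback U.ι).obj G
  haveI := KFlatLib.hasLTensorMod G'
  have h₁ : IsZero (((KFlatLib.tensorModCx G).obj Q₀).homology i) :=
    (KFlatLib.isZero_HD_iff ((KFlatLib.lTensorModObjIso G Q₀ hQ.1).symm ≪≫
      (DCoh.LTensorMod G).mapIso e) i).1 hz
  have h₂ : IsZero (((KFlatLib.pullCx U.ι).obj ((KFlatLib.tensorModCx G).obj Q₀)).homology i) :=
    (((Scheme.Modules.restrictFunctor U.ι).map_isZero h₁).of_iso
      ((((KFlatLib.tensorModCx G).obj Q₀).sc i).mapHomologyIso (Scheme.Modules.restrictFunctor U.ι))).of_iso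
      ((homologyFunctor _ _ i).mapIso ((KFlatLib.restrictCxIso U).app _).symm)
  have h₃ : IsZero (DCoh.HD ((DCoh.LTensorMod G').obj (DerivedCategory.Q.obj E)) i) :=
    ((KFlatLib.isZero_HD_iff (KFlatLib.lTensorModObjIso G' _ (KFlatLib.isKFlat_pull U.ι hQ.1)).symm i).2
      (h₂.of_iso ((homologyFunctor _ _ i).mapIso (pullTensorModCxIso U.ι G Q₀)).symm)).of_iso
      ((DerivedCategory.homologyFunctor _ i).mapIso ((DCoh.LTensorMod G').mapIso
        (eE ≪≫ DerivedCategory.Q.mapIso ((KFlatLib.restrictCxIso U).app Q₀))))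
  have hEflat : ∀ k, FlatMod.IsFlat (E.X k) := fun k x =>
    ProjFormLib.flat_stalk (KFlatLib.isFinLocFree_of_isFinFree (hEf k)) x
  have hEk : DCoh.IsKFlat E :=
    KFlatLib.isKFlat_of_bounded_flat_mod E b (fun k hk => hE0 k (Or.inr hk)) hEflat
  have h₄ := (KFlatLib.isZero_HD_lTensor_iff G' hEk (Iso.refl _) i).1 h₃ v
  let R := X.presheaf.stalk (g v)
  let S := (U : Scheme.{u}).presheaf.stalk v
  letI : Algebra R S := (g.stalkMap v).hom.toAlgebra
  haveI : IsLocallyNoetherian (U : Scheme.{u}) := isLocallyNoetherian_of_isOpenImmersion U.ι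
  haveI : Module.Flat R S := Flat.stalkMap g v
  let eN : (DerSch.stalkFunctor _ v).obj G' ≅ (ModuleCat.extendScalars.{u, u, u} (g.stalkMap v).hom).obj
      ((DerSch.stalkFunctor X (g v)).obj F) :=
    (DerSch.stalkFunctor _ v).mapIso ((Scheme.Modules.pullbackComp U.ι h).app F) ≪≫
      (KFlatLib.stalkPullIso g v).app F
  obtain ⟨q', hq'1, hq'2⟩ := exists_extend_quotient (g.stalkMap v) ((DerSch.stalkFunctor X (g v)).obj F) q hq
  have hJ : (IsLocalRing.maximalIdeal R).map (algebraMap R S) ≤ (⊥ : Ideal S).jacobson :=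
    le_trans (Ideal.map_le_iff_le_comap.2 fun r hr => by
      rw [Ideal.mem_comap, IsLocalRing.mem_maximalIdeal, mem_nonunits_iff]
      exact fun hu => (IsLocalRing.mem_maximalIdeal _).1 hr ((isUnit_map_iff (g.stalkMap v).hom r).1 hu))
      (IsLocalRing.maximalIdeal_le_jacobson _)
  obtain ⟨U', n, f', hvU', hf'⟩ :=
    ProjFormLib.exists_frame (KFlatLib.isFinLocFree_of_isFinFree (hEf i)) v
  haveI : Module.Finite S (((KFlatLib.stalkCx (U : Scheme.{u}) v).obj E).X i) :=
    Module.Finite.of_basis (hf'.basis v hvU')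
  have h₅ := isZero_homology_of_closedFibre (R := R) ((KFlatLib.stalkCx (U : Scheme.{u}) v).obj E) i
    (hEflat (i + 1) v) hJ _ (eN.inv.hom.comp q')
    ((ConcreteCategory.bijective_of_isIso eN.inv).2.comp hq'1)
    (by
      rw [LinearMap.ker_comp_of_ker_eq_bot _ (LinearMap.ker_eq_bot.2
        (ConcreteCategory.bijective_of_isIso eN.inv).1), hq'2, hker]
      rfl) h₄
  have h₆ : Subsingleton ((DCoh.HD (DerivedCategory.Q.obj E) i).presheaf.stalk v) :=
    (DCohRestrLib.subsingleton_stalk_of_iso ((DerivedCategory.homologyFunctorFactors _ i).app E) v).2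
      (ModuleCat.subsingleton_of_isZero (h₅.of_iso ((E.sc i).mapHomologyIso (DerSch.stalkFunctor _ v)).symm))
  intro hmem
  refine hmem ?_
  exact (DCohRestrLib.subsingleton_stalk_restrict U.ι (DCoh.HD K i) v).1
    ((DCohRestrLib.subsingleton_stalk_of_iso ((DerivedCategory.homologyFunctor _ i).mapIso
      (eE ≪≫ (PerfLib.resDQIso U.ι Q₀).symm ≪≫ (PerfLib.resD U.ι).mapIso e) ≪≫
        PerfLib.resHDIso U.ι K i) v).1 h₆)

end KerBddLib
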