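import Groth.Agent.KerBddLib.Main
import Groth.Agent.BrownFinLib.PointSpan

/-!
# A perfect kernel seen on the points of the first factor
-/

set_option autoImplicit false
set_option backward.isDefEq.respectTransparency false
set_option backward.isDefEq.respectTransparency.types false
set_option maxHeartbeats 1000000
set_option linter.style.haveILetI false

universe u

open CategoryTheory CategoryTheory.Limits AlgebraicGeometry Opposite
open Groth.Agent Groth.Agent.DerLib

attribute [local instance] HasDerivedCategory.standard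

namespace KerBddLib

theorem isCoh_pt {X : Scheme.{u}} [IsLocallyNoetherian X] {x : X} (hx : IsClosed ({x} : Set X)) :
    Coh.IsCoh (Dual3Lib.ptSheaf x) := by
  haveI : IsClosedImmersion (X.fromSpecResidueField x) := isClosed_singleton_iff_isClosedImmersion.1 hx
  exact QCohLib.isCoh_push_finite (X.fromSpecResidueField x) _ (DevissLib.isCoh_structureModule _)

/-- If the transform of every point sheaf has no `i`-th cohomology then neither has the kernel. -/
theorem isZero_HD_of_transforms (k : Type u) [Field k] {X Y : Scheme.{u}} (f : X ⟶ Spec (CommRingCat.of k))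
    (g : Y ⟶ Spec (CommRingCat.of k)) [LocallyOfFiniteType f] [CompactSpace X] [LocallyOfFiniteType g]
    [CompactSpace Y] [∀ F : X.Modules, DCoh.HasLTensorMod ((Scheme.Modules.pullback (pullback.fst f g)).obj F)]
    [DCoh.HasRpush (pullback.snd f g)] (L : DCoh.D (pullback f g)) (hL : DCoh.IsPerfect L) (i : ℤ)
    (h : ∀ F : X.Modules, Coh.IsCoh F → (CohB1.support F).Finite →
      (∀ x ∈ CohB1.support F, IsClosed ({x} : Set X)) →
      IsZero (DCoh.HD ((DCoh.Rpush (pullback.snd f g)).obj
        ((DCoh.LTensorMod ((Scheme.Modules.pullback (pullback.fst f g)).obj F)).obj L)) i)) :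
    IsZero (DCoh.HD L i) := by
  haveI : IsLocallyNoetherian X := LocallyOfFiniteType.isLocallyNoetherian f
  haveI : Flat g := inferInstance
  haveI : QuasiCompact f := quasiCompact_of_compactSpace f
  haveI : QuasiCompact g := quasiCompact_of_compactSpace g
  haveI : IsLocallyNoetherian (pullback f g) :=
    LocallyOfFiniteType.isLocallyNoetherian (pullback.snd f g ≫ g)
  haveI : CompactSpace ↥(pullback f g) :=
    QuasiCompact.compactSpace_of_compactSpace (pullback.snd f g ≫ g)
  haveI : IsNoetherian (pullback f g) := {}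
  obtain ⟨hLc, a, b, ha, hb⟩ := PerfLib.isCohD_and_bounded_of_isPerfect hL
  refine (DCohRestrLib.isZero_iff_support_empty _).2 ?_
  by_contra hne
  obtain ⟨z, hzS, hz⟩ := (QCohLib.isClosed_support _ (hLc i).2).exists_closed_singleton
    (Set.nonempty_iff_ne_empty.2 hne)
  let p₁ := pullback.fst f g
  let x := p₁ z
  haveI : JacobsonSpace X := LocallyOfFiniteType.jacobsonSpace f
  haveI : LocallyOfFiniteType p₁ := inferInstance
  have hx : IsClosed ({x} : Set X) := p₁.closePoints_subset_preimage_closedPoints hz
  let F := Dual3Lib.ptSheaf x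
  have hFs : CohB1.support F ⊆ {x} := Dual3Lib.support_ptSheaf hx
  let G := (Scheme.Modules.pullback p₁).obj F
  have hGs : CohB1.support G ⊆ p₁ ⁻¹' {x} := fun w hw => by
    by_contra hwx
    refine hw ?_
    have hs : Subsingleton ((DerSch.stalkFunctor X (p₁ w)).obj F) := by
      by_contra hns
      exact hwx (hFs hns)
    exact ModuleCat.subsingleton_of_isZero (((ModuleCat.extendScalars.{u, u, u} (p₁.stalkMap w).hom).map_isZero
      (@ModuleCat.isZero_of_subsingleton _ _ _ hs)).of_iso ((KFlatLib.stalkPullIso p₁ w).app F))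
  have hFc := isCoh_pt hx
  haveI := hb
  let T := (DCoh.LTensorMod G).obj L
  have hGq : Coh.IsQCoh G :=
    haveI := hFc.1
    KFlatLib.isQCoh_pullback p₁ F
  have hTq : DCoh.IsQCohD T := KiehlLib.isQCohD_lTensorMod G hGq L b fun j => (hLc j).1
  obtain ⟨U₀, hU₀, hxU, -⟩ := exists_isAffineOpen_mem_and_subset (x := x) (U := (⊤ : X.Opens)) trivial
  let W : (pullback f g).Opens := p₁ ⁻¹ᵁ U₀
  haveI : IsAffineHom (W.ι ≫ pullback.snd f g) := by
    haveI : IsAffine U₀.toScheme := hU₀
    have sq : IsPullback (W.ι ≫ pullback.snd f g) (p₁ ∣_ U₀) g (U₀.ι ≫ f) :=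
      (isPullback_morphismRestrict p₁ U₀).flip.paste_horiz
        (IsPullback.of_hasPullback f g).flip
    exact MorphismProperty.of_isPullback (P := @IsAffineHom) sq.flip
      (isAffineHom_of_isAffine (U₀.ι ≫ f))
  have hT0 : IsZero (DCoh.HD T i) :=
    isZero_HD_of_supported (pullback.snd f g) W (p₁ ⁻¹' {x}) (hx.preimage p₁.continuous)
      (fun w hw => by
        change p₁ w ∈ U₀
        rw [Set.mem_singleton_iff.1 hw]
        exact hxU) T hTq (fun j => (support_lTensorMod_subset G L j).trans hGs) i
      (h F hFc ((Set.finite_singleton x).subset hFs) fun y hy => hFs hy ▸ hx)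
  obtain ⟨q, hq, hker⟩ := exists_stalk_ptSheaf x hx
  exact notMem_support_of_fibre p₁ L hL z F q hq hker i hT0 hzS

end KerBddLib
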