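import Groth.Agent.KerBddLib.Detect
import Groth.Agent.KerBddLib.Fibre
import Groth.Agent.KiehlLib.Tensor
import Groth.Agent.PerfLib.Derived
import Groth.Agent.KFlatLib.PerfectPull
import Groth.Agent.KFlatLib.DerivedCoprod
import Groth.Agent.Dual3Lib.PointTest
import Groth.Agent.QRlimLib.Unbounded

/-!
# Cones, point sheaves
-/

set_option autoImplicit false
set_option backward.isDefEq.respectTransparency false
set_option backward.isDefEq.respectTransparency.types false
set_option maxHeartbeats 1000000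
set_option linter.style.haveILetI false

universe u

open CategoryTheory CategoryTheory.Limits AlgebraicGeometry Opposite CategoryTheory.Pretriangulated
open Groth.Agent Groth.Agent.DerLib

attribute [local instance] HasDerivedCategory.standard

namespace KerBddLib

variable {X Y : Scheme.{u}}

/-- `O_{Z,p}` as the stalk of the structure module. -/
noncomputable def stalkOneEquiv (Z : Scheme.{u}) (p : Z) :
    (DerSch.stalkFunctor Z p).obj (Coh.structureModule Z) ≃ₗ[Z.presheaf.stalk p] Z.presheaf.stalk p :=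
  ((DerSch.stalkFunctor Z p).mapIso (KFlatLib.structureIso Z).symm ≪≫
    KFlatLib.stalkFreeUIso p (show p ∈ (⊤ : Z.Opens) from trivial)).toLinearEquiv

/-- The stalk of the point sheaf is the residue field. -/
theorem exists_stalk_ptSheaf (x : X) (hx : IsClosed ({x} : Set X)) :
    ∃ q : X.presheaf.stalk x →ₗ[X.presheaf.stalk x] (DerSch.stalkFunctor X x).obj (Dual3Lib.ptSheaf x),
      Function.Surjective q ∧ LinearMap.ker q = IsLocalRing.maximalIdeal (X.presheaf.stalk x) := by
  let i := X.fromSpecResidueField x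
  haveI : IsClosedImmersion i := isClosed_singleton_iff_isClosedImmersion.1 hx
  let p : Spec (X.residueField x) := default
  suffices h : ∀ z : X, i p = z → ∃ q : X.presheaf.stalk z →ₗ[X.presheaf.stalk z]
      (DerSch.stalkFunctor X z).obj (Dual3Lib.ptSheaf x),
      Function.Surjective q ∧ LinearMap.ker q = IsLocalRing.maximalIdeal (X.presheaf.stalk z) from
    h x (Scheme.fromSpecResidueField_apply x p)
  rintro z rfl
  let S₀ := (Spec (X.residueField x)).presheaf.stalk p
  let A₀ : ModuleCat.{u} S₀ := (DerSch.stalkFunctor (Spec (X.residueField x)) p).obj (Coh.structureModule _)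
  let u₀ : Coh.structureModule (Spec (X.residueField x)) ⟶ KFlatLib.skyObj p A₀ := KFlatLib.skyLift p (𝟙 A₀)
  haveI : IsIso u₀ := KFlatLib.isIso_of_stalks u₀ fun p' => by
    obtain rfl : p' = p := Subsingleton.elim _ _
    have e : (DerSch.stalkFunctor _ p).map u₀ ≫ (KFlatLib.skyCounit p A₀).hom = 𝟙 A₀ :=
      KFlatLib.skyLift_counit p (𝟙 A₀)
    rw [(Iso.comp_hom_eq_id _).1 e]
    infer_instance
  let τ := (i.stalkMap p).hom
  have hτ : Function.Surjective τ := i.stalkMap_surjective p
  let ε : (DerSch.stalkFunctor X (i p)).obj (Dual3Lib.ptSheaf x) ≅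
      (ModuleCat.restrictScalars τ).obj A₀ :=
    (DerSch.stalkFunctor X (i p)).mapIso ((Scheme.Modules.pushforward i).mapIso (asIso u₀) ≪≫
      KFlatLib.pushSkyObjIso i p A₀) ≪≫ KFlatLib.skyCounit (i p) _
  let g₀ : A₀ := (stalkOneEquiv _ p).symm 1
  let q₀ : X.presheaf.stalk (i p) →ₗ[X.presheaf.stalk (i p)] (ModuleCat.restrictScalars τ).obj A₀ :=
    LinearMap.toSpanSingleton _ _ g₀
  have hq₀ : ∀ r, q₀ r = τ r • g₀ := fun r => rfl
  refine ⟨ε.inv.hom.comp q₀, ?_, ?_⟩
  · refine (ConcreteCategory.bijective_of_isIso ε.inv).2.comp fun t => ?_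
    obtain ⟨r, hr⟩ := hτ (stalkOneEquiv _ p (show A₀ from t))
    refine ⟨r, (hq₀ r).trans ?_⟩
    rw [hr, ← map_smul, smul_eq_mul, mul_one, LinearEquiv.symm_apply_apply]
  · rw [LinearMap.ker_comp_of_ker_eq_bot _ (LinearMap.ker_eq_bot.2
      (ConcreteCategory.bijective_of_isIso ε.inv).1)]
    haveI : Subsingleton (Spec (X.residueField x)) := inferInstance
    refine Ideal.ext fun r => LinearMap.mem_ker.trans ?_
    rw [hq₀, ← map_smul]
    refine ((stalkOneEquiv _ p).symm.map_eq_zero_iff).trans ?_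
    rw [smul_eq_mul, mul_one]
    constructor
    · exact fun h0 => (IsLocalRing.mem_maximalIdeal _).2 fun hu => by
        have h1 := hu.map τ
        rw [h0] at h1
        exact not_isUnit_zero h1
    · intro hr
      by_contra hne
      have hf : IsField S₀ := by
        refine isField_stalk_of_closure_mem_irreducibleComponents _ p ?_
        rw [irreducibleComponents_eq_singleton, Set.mem_singleton_iff]
        exact Set.eq_univ_of_forall fun w => Subsingleton.elim p w ▸ subset_closure rfl
      obtain ⟨v, hv⟩ := hf.mul_inv_cancel hne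
      exact (IsLocalRing.mem_maximalIdeal _).1 hr
        ((isUnit_map_iff τ r).1 (IsUnit.of_mul_eq_one v hv))

/-- The cone of a map, with its derived tensor product. -/
theorem exists_lTensor_triangle (G : X.Modules) [DCoh.HasLTensorMod G] {K K' C : DCoh.D X} (t : K ⟶ K')
    (g : K' ⟶ C) (h : C ⟶ K⟦(1 : ℤ)⟧) (hT : Triangle.mk t g h ∈ distinguishedTriangles) :
      ∃ T' : Triangle (DCoh.D X), T' ∈ distinguishedTriangles ∧
        ∃ (e₁ : T'.obj₁ ≅ (DCoh.LTensorMod G).obj K) (e₂ : T'.obj₂ ≅ (DCoh.LTensorMod G).obj K'),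
          T'.mor₁ ≫ e₂.hom = e₁.hom ≫ (DCoh.LTensorMod G).map t ∧
          Nonempty (T'.obj₃ ≅ (DCoh.LTensorMod G).obj C) := by
  obtain ⟨P, Q, φ, hP, hQ, ⟨e⟩⟩ := KFlatLib.exists_kFlat_triangle _ hT
  have hn := KFlatLib.leftDerivedObjIso_natural (KFlatLib.preservesKFlatQis_tensorMod G) hP hQ φ
  refine ⟨DerivedCategory.Q.mapTriangle.obj (CochainComplex.mappingCone.triangle
      ((KFlatLib.tensorModCx G).map φ)), DerivedCategory.mappingCone_triangle_distinguished _,
    (KFlatLib.lTensorModObjIso G P hP).symm ≪≫ (DCoh.LTensorMod G).mapIso (Triangle.π₁.mapIso e),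
    (KFlatLib.lTensorModObjIso G Q hQ).symm ≪≫ (DCoh.LTensorMod G).mapIso (Triangle.π₂.mapIso e), ?_,
    ⟨DerivedCategory.Q.mapIso (CochainComplex.mappingCone.mapHomologicalComplexIso φ
        (DCoh.tensorRightMod G)).symm ≪≫
      (KFlatLib.lTensorModObjIso G _ (KFlatLib.isKFlat_mappingCone_mod hP hQ φ)).symm ≪≫
      (DCoh.LTensorMod G).mapIso (Triangle.π₃.mapIso e)⟩⟩
  have c₁ : DerivedCategory.Q.map φ ≫ e.hom.hom₂ = e.hom.hom₁ ≫ t := e.hom.comm₁
  change DerivedCategory.Q.map ((KFlatLib.tensorModCx G).map φ) ≫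
      (KFlatLib.lTensorModObjIso G Q hQ).inv ≫ (DCoh.LTensorMod G).map e.hom.hom₂ =
    ((KFlatLib.lTensorModObjIso G P hP).inv ≫ (DCoh.LTensorMod G).map e.hom.hom₁) ≫ _
  rw [Category.assoc, ← Functor.map_comp, ← c₁, Functor.map_comp, ← Category.assoc, ← Category.assoc]
  congr 1
  rw [Iso.comp_inv_eq, Category.assoc, Iso.eq_inv_comp]
  exact hn.symm

/-- The middle of a distinguished triangle through homology. -/
theorem isZero_HD₃_of_epi_mono {T : Triangle (DCoh.D X)} (hT : T ∈ distinguishedTriangles) (i : ℤ)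
    (he : Epi ((DerivedCategory.homologyFunctor X.Modules i).map T.mor₁))
    (hm : Mono ((DerivedCategory.homologyFunctor X.Modules (i + 1)).map T.mor₁)) :
    IsZero (DCoh.HD T.obj₃ i) := by
  refine (DerivedCategory.HomologySequence.exact₃ T hT i (i + 1) rfl).isZero_X₂ ?_ ?_
  · rw [← cancel_epi ((DerivedCategory.homologyFunctor X.Modules i).map T.mor₁), comp_zero]
    exact (Functor.map_comp _ _ _).symm.trans (by
      rw [comp_distTriang_mor_zero₁₂ T hT, Functor.map_zero])
  · rw [← cancel_mono ((DerivedCategory.homologyFunctor X.Modules (i + 1)).map T.mor₁), zero_comp]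
    exact DerivedCategory.HomologySequence.δ_comp T hT i (i + 1) rfl

/-- First map of a distinguished triangle iso on homology. -/
theorem isIso_HD₁_of_isZero {T : Triangle (DCoh.D X)} (hT : T ∈ distinguishedTriangles) (i : ℤ)
    (h₀ : IsZero (DCoh.HD T.obj₃ (i - 1))) (h₁ : IsZero (DCoh.HD T.obj₃ i)) :
    IsIso ((DerivedCategory.homologyFunctor X.Modules i).map T.mor₁) := by
  haveI : Mono ((DerivedCategory.homologyFunctor X.Modules i).map T.mor₁) :=
    (DerivedCategory.HomologySequence.exact₁ T hT (i - 1) i (by omega)).mono_g (h₀.eq_of_src _ _)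
  haveI : Epi ((DerivedCategory.homologyFunctor X.Modules i).map T.mor₁) :=
    (DerivedCategory.HomologySequence.exact₂ T hT i).epi_f (h₁.eq_of_tgt _ _)
  exact isIso_of_mono_of_epi _

end KerBddLib
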