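import Groth.Agent.KerBddLib.Key
import Groth.Agent.KoszOrthLib.GammaHom
import Groth.Agent.Dual3Lib.TwGE

/-!
# A perfect object seen by maps from the unit into its derived fibre at a closed point
-/

set_option autoImplicit false
set_option backward.isDefEq.respectTransparency false
set_option backward.isDefEq.respectTransparency.types false
set_option maxHeartbeats 1000000
set_option linter.style.haveILetI false

universe u

open CategoryTheory CategoryTheory.Limits AlgebraicGeometry Opposite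
open Groth.Agent Groth.Agent.DerLib Groth.Agent.KoszOrthLib

attribute [local instance] HasDerivedCategory.standard

namespace KerBddLib

/-- On an affine scheme maps from `O` detect each cohomology sheaf. -/
theorem isZero_HD_of_hom_unit {S : Scheme.{u}} [IsAffine S] {E : DCoh.D S} (hE : DCoh.IsQCohD E) {i : ℤ}
    (h : ∀ φ : DCoh.inD S (Coh.structureModule S) ⟶ E⟦i⟧, φ = 0) : IsZero (DCoh.HD E i) := by
  obtain ⟨M, ⟨e⟩⟩ := exists_tX_iso hE
  obtain ⟨a⟩ := nonempty_tX_kA_nil S
  let b : (tX S).obj (M⟦i⟧) ≅ E⟦i⟧ := ((tX S).commShiftIso i).app M ≪≫ (shiftFunctor _ i).mapIso e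
  have hM := (orth_nil_iff M i).1 fun ψ => (tX S).map_injective (by
    have h0 := h (a.inv ≫ (tX S).map ψ ≫ b.hom)
    rw [Functor.map_zero]
    exact zero_of_comp_mono b.hom (zero_of_epi_comp a.inv h0))
  exact (((Scheme.Modules.restrictFunctor S.isoSpec.hom).map_isZero
    ((tilde.functor (CommRingCat.of (AX S))).map_isZero hM)).of_iso (tXHIso i M)).of_iso
      ((DerivedCategory.homologyFunctor _ i).mapIso e).symm

variable {X : Scheme.{u}}

/-- Shifts have the shifted supports. -/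
theorem support_HD_shift (T : DCoh.D X) (n j : ℤ) :
    CohB1.support (DCoh.HD (T⟦n⟧) j) ⊆ CohB1.support (DCoh.HD T (n + j)) := fun y hy hs =>
  hy ((DCohRestrLib.subsingleton_stalk_of_iso
    (((DerivedCategory.homologyFunctor X.Modules 0).shiftIso n j (n + j) rfl).app T) y).2 hs)

variable [IsNoetherian X] {x : X}

/-- A perfect object whose derived fibre at `x` receives no map from `O` in degree `i` has no
`i`-th cohomology near `x`. -/
theorem exists_nhd_of_hom_unit (hx : IsClosed ({x} : Set X)) [DCoh.HasLTensorMod (Dual3Lib.ptSheaf x)]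
    (K : DCoh.D X) (hK : DCoh.IsPerfect K) (i : ℤ)
    (h : ∀ φ : DCoh.inD X (Coh.structureModule X) ⟶
      ((DCoh.LTensorMod (Dual3Lib.ptSheaf x)).obj K)⟦i⟧, φ = 0) :
    ∃ U : X.Opens, x ∈ U ∧ ∀ y : X, y ∈ U → y ∉ CohB1.support (DCoh.HD K i) := by
  obtain ⟨hKcoh, -, b, -, hb⟩ := PerfLib.isCohD_and_bounded_of_isPerfect hK
  have hKc : DCoh.IsQCohD K := fun j => (hKcoh j).1
  let F := Dual3Lib.ptSheaf x
  let T := (DCoh.LTensorMod F).obj K
  haveI := hb
  have hTq : DCoh.IsQCohD T := KiehlLib.isQCohD_lTensorMod F (isCoh_pt hx).1 K b hKc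
  have hTs : ∀ j, CohB1.support (DCoh.HD T j) ⊆ {x} := fun j =>
    (support_lTensorMod_subset F K j).trans (Dual3Lib.support_ptSheaf hx)
  obtain ⟨V, hV, hxV, -⟩ := exists_isAffineOpen_mem_and_subset (x := x) (U := (⊤ : X.Opens)) trivial
  haveI : IsAffine V.toScheme := hV
  let RD := DCoh.restrictD V.ι
  have hVT : IsZero (DCoh.HD (RD.obj T) i) := by
    refine isZero_HD_of_hom_unit (isQCohD_restrictD V.ι hTq) fun φ => ?_
    obtain ⟨ψ, hψ⟩ := (Dual3Lib.bijective_restrictD_target V hx (Set.singleton_subset_iff.2 hxV)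
      (DCoh.inD X (Coh.structureModule X)) (T⟦i⟧) (fun j => (support_HD_shift T i j).trans (hTs _))).2
      ((DualCxLib.restrictInDUnit V.ι).hom ≫ φ ≫ ((RD.commShiftIso i).app T).inv)
    rw [h ψ] at hψ
    dsimp only at hψ
    rw [Functor.map_zero] at hψ
    exact zero_of_comp_mono _ (zero_of_epi_comp (DualCxLib.restrictInDUnit V.ι).hom hψ.symm)
  have hT0 : IsZero (DCoh.HD T i) := by
    refine (DCohRestrLib.isZero_iff_support_empty _).2 (Set.eq_empty_iff_forall_notMem.2 fun y hy => ?_)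
    obtain rfl := Set.mem_singleton_iff.1 (hTs i hy)
    exact hy ((DCohRestrLib.subsingleton_stalk_restrict V.ι _ ⟨y, hxV⟩).1
      ((DCohRestrLib.isZero_iff_subsingleton_stalks _).1 (hVT.of_iso (DCohRestrLib.restrictHDIso V.ι T i).symm) _))
  let G := (Scheme.Modules.pullback (𝟙 X)).obj F
  haveI := KFlatLib.hasLTensorMod G
  obtain ⟨Q₀, hQ, ⟨e⟩⟩ := KFlatLib.exists_good_rep K
  have hG : IsZero (DCoh.HD ((DCoh.LTensorMod G).obj K) i) :=
    hT0.of_iso ((DerivedCategory.homologyFunctor _ i).mapIso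
      ((DCoh.LTensorMod G).mapIso e.symm ≪≫ KFlatLib.lTensorModObjIso G Q₀ hQ.1 ≪≫
        DerivedCategory.Q.mapIso ((NatIso.mapHomologicalComplex ((DCoh.tensorBi (X := X)).flip.mapIso
          ((Scheme.Modules.pullbackId X).app F)) (ComplexShape.up ℤ)).app Q₀) ≪≫
        (KFlatLib.lTensorModObjIso F Q₀ hQ.1).symm ≪≫ (DCoh.LTensorMod F).mapIso e))
  obtain ⟨q, hq, hker⟩ := exists_stalk_ptSheaf x hx
  have hxK := notMem_support_of_fibre (𝟙 X) K hK x F q hq hker i hG
  exact ⟨⟨(CohB1.support (DCoh.HD K i))ᶜ, (QCohLib.isClosed_support _ (hKcoh i).2).isOpen_compl⟩, hxK,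
    fun y hy => hy⟩

end KerBddLib
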