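import Groth.Agent.Dual3Lib.PointOrth
import Groth.Agent.CommAlgDim.Regular
import Mathlib.RingTheory.KrullDimension.Regular
import Mathlib.RingTheory.KrullDimension.Zero

/-!
# Orthogonality to a regular point in one degree

If `A_m` is regular of dimension `d` and `Hom(A/m, R⟦n⟧)` is torsion at `m` then so is `H^{n-d}(R)`.
-/

set_option autoImplicit false
set_option linter.style.haveILetI false
set_option backward.isDefEq.respectTransparency false
set_option backward.isDefEq.respectTransparency.types false
set_option maxHeartbeats 1000000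

universe u

open CategoryTheory CategoryTheory.Limits
open Groth.Agent Groth.Agent.DualCxLib
open DTenLib.Point (hH sg)

attribute [local instance] HasDerivedCategory.standard

noncomputable section

namespace KerBddLib.RegOrth

variable {A : Type u} [CommRing A] [IsNoetherianRing A] {R : Dual.D A} (m : Ideal A) [m.IsMaximal]

theorem extMap_comp {M N P : ModuleCat.{u} A} (a : M ⟶ N) (b : N ⟶ P) (i : ℤ) (g : Ext R P i) :
    extMap R a i (extMap R b i g) = extMap R (a ≫ b) i g := by
  change (DerivedCategory.singleFunctor (ModuleCat.{u} A) 0).map a ≫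
    (DerivedCategory.singleFunctor (ModuleCat.{u} A) 0).map b ≫ g =
      (DerivedCategory.singleFunctor (ModuleCat.{u} A) 0).map (a ≫ b) ≫ g
  rw [Functor.map_comp, Category.assoc]

/-- One step along a regular sequence. -/
theorem tor_step {a : ℤ} (hge : R.IsGE a) (hfin : ∀ i, Module.Finite A ((hH A i).obj R)) (I : Ideal A)
    (t : A) (htm : t ∈ m) (s : A) (hs : s ∈ m.primeCompl) (hreg : ∀ y, t * y ∈ I → s * y ∈ I) (j : ℤ)
    (h : Tor m.primeCompl (Ext R (ModuleCat.of A (A ⧸ (I ⊔ Ideal.span {t}))) (j + 1))) :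
    Tor m.primeCompl (Ext R (ModuleCat.of A (A ⧸ I)) j) := by
  let M₀ := A ⧸ I
  let mt : M₀ →ₗ[A] M₀ := t • LinearMap.id
  let J : Submodule A M₀ := LinearMap.range mt
  let π : M₀ →ₗ[A] A ⧸ (I ⊔ Ideal.span {t}) := Submodule.factor le_sup_left
  have hex : Function.Exact J.subtype π := by
    intro y
    obtain ⟨b, rfl⟩ := Submodule.mkQ_surjective I y
    rw [Submodule.mkQ_apply, show π (Submodule.Quotient.mk b) = Submodule.Quotient.mk b from rfl,
      Submodule.Quotient.mk_eq_zero]
    constructor
    · intro hb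
      obtain ⟨u, hu, v, hv, rfl⟩ := Submodule.mem_sup.1 hb
      obtain ⟨c, rfl⟩ := Ideal.mem_span_singleton'.1 hv
      refine ⟨⟨_, ⟨Submodule.Quotient.mk c, rfl⟩⟩, ?_⟩
      simp only [mt, Submodule.subtype_apply, LinearMap.smul_apply, LinearMap.id_apply]
      rw [← Submodule.Quotient.mk_smul, Submodule.Quotient.eq, smul_eq_mul]
      simpa [mul_comm c t] using I.neg_mem hu
    · rintro ⟨⟨_, z, rfl⟩, hz⟩
      obtain ⟨c, rfl⟩ := Submodule.mkQ_surjective I z
      simp only [mt, Submodule.subtype_apply, LinearMap.smul_apply, LinearMap.id_apply,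
        Submodule.mkQ_apply] at hz
      replace hz := (Submodule.Quotient.eq I).1 ((Submodule.Quotient.mk_smul I t c).trans hz)
      rw [smul_eq_mul] at hz
      rw [show b = t * c - (t * c - b) by ring]
      exact sub_mem (Ideal.mem_sup_right (Ideal.mul_mem_right _ _ (Ideal.mem_span_singleton_self t)))
        (Ideal.mem_sup_left hz)
  obtain ⟨w, hS⟩ := ExtVanLib.shortExact_mk J.subtype π J.injective_subtype (Submodule.factor_surjective _) hex
  have hker : LinearMap.ker mt.rangeRestrict ≤ LinearMap.ker (s • LinearMap.id : M₀ →ₗ[A] M₀) := by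
    intro y hy
    rw [LinearMap.ker_rangeRestrict, LinearMap.mem_ker] at hy
    obtain ⟨b, rfl⟩ := Submodule.mkQ_surjective I y
    rw [LinearMap.mem_ker]
    simp only [mt, LinearMap.smul_apply, LinearMap.id_apply, Submodule.mkQ_apply] at hy ⊢
    replace hy := (Submodule.Quotient.mk_eq_zero I).1 ((Submodule.Quotient.mk_smul I t b).trans hy)
    refine (Submodule.Quotient.mk_smul I s b).symm.trans ((Submodule.Quotient.mk_eq_zero I).2 ?_)
    exact hreg b hy
  let σ : J →ₗ[A] M₀ :=
    ((LinearMap.ker mt.rangeRestrict).liftQ (s • LinearMap.id : M₀ →ₗ[A] M₀) hker).comp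
      (mt.rangeRestrict.quotKerEquivOfSurjective mt.surjective_rangeRestrict).symm.toLinearMap
  have hσ : ∀ y, σ (mt.rangeRestrict y) = s • y := fun y => by
    simp only [σ, LinearMap.comp_apply, LinearEquiv.coe_coe]
    rw [show (mt.rangeRestrict.quotKerEquivOfSurjective mt.surjective_rangeRestrict).symm
        (mt.rangeRestrict y) = Submodule.Quotient.mk y from (LinearEquiv.symm_apply_eq _).2 rfl,
      Submodule.liftQ_apply, LinearMap.smul_apply, LinearMap.id_apply]
  let f' : ModuleCat.of A M₀ ⟶ ModuleCat.of A J := ModuleCat.ofHom mt.rangeRestrict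
  have e₁ : f' ≫ ModuleCat.ofHom σ = s • 𝟙 (ModuleCat.of A M₀) := by
    refine ModuleCat.hom_ext (LinearMap.ext fun y => ?_)
    exact hσ y
  have e₂ : f' ≫ ModuleCat.ofHom J.subtype = t • 𝟙 (ModuleCat.of A M₀) := rfl
  let E := Ext R (ModuleCat.of A M₀) j
  haveI := isNoetherian_ext hge hfin (ModuleCat.of A M₀) j
  have hdiv : ∀ f : E, ∃ c ∈ m.primeCompl, ∃ g : E, c • f = t • g := fun f => by
    obtain ⟨c, hc, g, hg⟩ := Dual3Lib.PointOrth.exists_extend_tor hS j h (extMap R (ModuleCat.ofHom σ) j f)
    refine ⟨c * s, m.primeCompl.mul_mem hc hs, g, ?_⟩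
    have h1 := congrArg (extMap R f' j) hg
    rw [map_smul, extMap_comp, e₁, extMap_comp, e₂, Dual3Lib.PointOrth.extMap_smul_id,
      Dual3Lib.PointOrth.extMap_smul_id] at h1
    rw [mul_smul]
    exact h1
  let S := m.primeCompl
  haveI : Module.Finite (Localization.AtPrime m) (LocalizedModule S E) :=
    Module.Finite.of_isLocalizedModule S (LocalizedModule.mkLinearMap S E)
  have htop : (⊤ : Submodule (Localization.AtPrime m) (LocalizedModule S E)) ≤
      IsLocalRing.maximalIdeal (Localization.AtPrime m) • ⊤ := by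
    rintro y -
    induction y using LocalizedModule.induction_on with
    | _ f r =>
      obtain ⟨c, hc, g, hg⟩ := hdiv f
      have e : LocalizedModule.mk f r =
          algebraMap A (Localization.AtPrime m) t • LocalizedModule.mk g (⟨c, hc⟩ * r) := by
        rw [algebraMap_smul, LocalizedModule.smul'_mk, ← hg]
        exact (LocalizedModule.mk_cancel_common_left ⟨c, hc⟩ r f).symm
      rw [e]
      refine Submodule.smul_mem_smul ?_ Submodule.mem_top
      rw [← Localization.AtPrime.map_eq_maximalIdeal]
      exact Ideal.mem_map_of_mem _ htm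
  have hbot := Submodule.eq_bot_of_le_smul_of_le_jacobson_bot _ ⊤ Module.Finite.fg_top htop
    (IsLocalRing.jacobson_eq_maximalIdeal _ bot_ne_top).ge
  haveI : Subsingleton (LocalizedModule S E) :=
    (Submodule.subsingleton_iff (Localization.AtPrime m)).1 (subsingleton_of_bot_eq_top hbot.symm)
  exact LocalizedModule.subsingleton_iff.1 ‹_›

/-- An ideal with the same extension to `A_m` as `m` sees the torsion of the point. -/
theorem tor_base (I : Ideal A) (hI : I ≤ m) (s : A) (hs : s ∈ m.primeCompl) (hsm : ∀ y ∈ m, s * y ∈ I) (n : ℤ)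
    (h : Tor m.primeCompl (Ext R (ModuleCat.of A (A ⧸ m)) n)) :
    Tor m.primeCompl (Ext R (ModuleCat.of A (A ⧸ I)) n) := fun g => by
  let π : A ⧸ I →ₗ[A] A ⧸ m := Submodule.factor hI
  let σ : A ⧸ m →ₗ[A] A ⧸ I := Submodule.liftQ m (s • Submodule.mkQ I) fun y hy => by
    rw [LinearMap.mem_ker, LinearMap.smul_apply, Submodule.mkQ_apply, ← Submodule.Quotient.mk_smul,
      Submodule.Quotient.mk_eq_zero, smul_eq_mul]
    exact hsm y hy
  have e : ModuleCat.ofHom π ≫ ModuleCat.ofHom σ = s • 𝟙 (ModuleCat.of A (A ⧸ I)) :=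
    ModuleCat.hom_ext (LinearMap.ext fun y => by
      obtain ⟨b, rfl⟩ := Submodule.mkQ_surjective I y
      rfl)
  obtain ⟨c, hc, h0⟩ := h (extMap R (ModuleCat.ofHom σ) n g)
  refine ⟨c * s, m.primeCompl.mul_mem hc hs, ?_⟩
  have h1 := congrArg (extMap R (ModuleCat.ofHom π) n) h0
  rw [map_smul, map_zero, extMap_comp, e, Dual3Lib.PointOrth.extMap_smul_id] at h1
  rw [mul_smul]
  exact h1

omit [IsNoetherianRing A] in
/-- Membership in an extended ideal, with a denominator. -/
theorem exists_mul_mem (I : Ideal A) (y : A)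
    (h : algebraMap A (Localization.AtPrime m) y ∈ I.map (algebraMap A (Localization.AtPrime m))) :
    ∃ s ∈ m.primeCompl, s * y ∈ I := by
  obtain ⟨⟨b, r⟩, hb⟩ := (IsLocalization.mem_map_algebraMap_iff m.primeCompl _).1 h
  rw [← map_mul] at hb
  obtain ⟨c, hc⟩ := (IsLocalization.eq_iff_exists m.primeCompl _).1 hb
  exact ⟨(c : A) * r, (c * r).2, by rw [mul_assoc, mul_comm (r : A) y, hc]; exact I.mul_mem_left _ b.2⟩

/-- One denominator for a whole ideal. -/
theorem exists_uniform (I : Ideal A) {K : Ideal A} (h : ∀ y ∈ K, ∃ s ∈ m.primeCompl, s * y ∈ I) :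
    ∃ s ∈ m.primeCompl, ∀ y ∈ K, s * y ∈ I := by
  classical
  obtain ⟨G, rfl⟩ := IsNoetherian.noetherian K
  choose! s hs hsI using h
  refine ⟨∏ g ∈ G, s g, Submonoid.prod_mem _ fun g hg => hs g (Submodule.subset_span hg), fun y hy => ?_⟩
  induction hy using Submodule.span_induction with
  | mem g hg =>
    obtain ⟨c, hc⟩ := Finset.dvd_prod_of_mem s hg
    rw [hc, mul_comm (s g) c, mul_assoc]
    exact I.mul_mem_left _ (hsI g (Submodule.subset_span hg))
  | zero => simp
  | add p q _ _ hp hq => rw [mul_add]; exact I.add_mem hp hq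
  | smul r p _ hp => rw [smul_eq_mul, mul_left_comm]; exact I.mul_mem_left _ hp

/-- **Orthogonality in one degree at a regular point.** -/
theorem tor_homology_sub_dim [IsRegularLocalRing (Localization.AtPrime m)] (d : ℕ)
    (hd : ringKrullDim (Localization.AtPrime m) = d) {a : ℤ} (hge : R.IsGE a)
    (hfin : ∀ i, Module.Finite A ((hH A i).obj R)) (n : ℤ)
    (h : Tor m.primeCompl (Ext R (ModuleCat.of A (A ⧸ m)) n)) :
    Tor m.primeCompl ((hH A (n - d)).obj R) := by
  let L := Localization.AtPrime m
  let f := algebraMap A L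
  haveI : IsDomain (L ⧸ IsLocalRing.maximalIdeal L) := inferInstance
  letI := Ideal.Quotient.field (IsLocalRing.maximalIdeal L)
  obtain ⟨rs, hrs, hm⟩ := CommAlgDim.exists_isRegular_of_regular_quotient (J := IsLocalRing.maximalIdeal L)
  have hlen : rs.length = d := by
    have h1 := ringKrullDim_add_length_eq_ringKrullDim_of_isRegular rs hrs
    rw [hm, ringKrullDim_eq_zero_of_field, zero_add, hd] at h1
    exact_mod_cast h1
  choose x hx using fun i : Fin rs.length => IsLocalization.surj m.primeCompl rs[i]
  let num : Fin rs.length → A := fun i => (x i).1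
  let den : Fin rs.length → m.primeCompl := fun i => (x i).2
  have hnum : ∀ i, rs[i] * f (den i) = f (num i) := hx
  have hnum' : ∀ i : Fin rs.length, f (num i) = rs[i] * f (den i) := fun i => (hnum i).symm
  let t : ℕ → A := fun i => if hi : i < rs.length then num ⟨i, hi⟩ else 0
  let I : ℕ → Ideal A := fun k => Ideal.span (t '' {i | i < k})
  have hI : ∀ k ≤ rs.length, (I k).map f = Ideal.ofList (rs.take k) := by
    intro k hk
    rw [Ideal.map_span]
    refine le_antisymm (Ideal.span_le.2 ?_) (Ideal.span_le.2 ?_)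
    · rintro _ ⟨_, ⟨i, hi, rfl⟩, rfl⟩
      have hir : i < rs.length := lt_of_lt_of_le hi hk
      simp only [t, dif_pos hir, hnum']
      refine Ideal.mul_mem_right _ _ (Ideal.subset_span ?_)
      exact List.mem_take_iff_getElem.2 ⟨i, by have : i < k := hi; omega, rfl⟩
    · intro x hx
      obtain ⟨i, hi, rfl⟩ := List.mem_take_iff_getElem.1 hx
      have hir : i < rs.length := by omega
      obtain ⟨u, hu⟩ := IsLocalization.map_units L (den ⟨i, hir⟩)
      have : rs[i] = f (t i) * ((u⁻¹ : Lˣ) : L) := by
        simp only [t, dif_pos hir, hnum']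
        rw [show f (den ⟨i, hir⟩ : A) = (u : L) from hu.symm, Units.mul_inv_cancel_right]
        rfl
      rw [this]
      exact Ideal.mul_mem_right _ _ (Ideal.subset_span ⟨_, ⟨i, by simp only [Set.mem_setOf_eq]; omega, rfl⟩, rfl⟩)
  have htm : ∀ i, t i ∈ m := fun i => by
    by_cases hir : i < rs.length
    · rw [← IsLocalization.AtPrime.to_map_mem_maximal_iff L m (t i), ← hm]
      simp only [t, dif_pos hir]
      rw [hnum']
      exact Ideal.mul_mem_right _ _ (Ideal.subset_span (List.getElem_mem hir))
    · simp [t, hir]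
  have main : ∀ k : ℕ, k ≤ rs.length →
      Tor m.primeCompl (Ext R (ModuleCat.of A (A ⧸ I (rs.length - k))) (n - k)) := by
    intro k hk
    induction k with
    | zero =>
      rw [show n - ((0 : ℕ) : ℤ) = n by simp, Nat.sub_zero]
      have hle : I rs.length ≤ m := Ideal.span_le.2 (by rintro _ ⟨i, -, rfl⟩; exact htm i)
      obtain ⟨s, hs, hsm⟩ := exists_uniform m (I rs.length) (K := m) fun y hy => exists_mul_mem m _ y (by
        rw [hI _ le_rfl, List.take_length, hm]
        exact (IsLocalization.AtPrime.to_map_mem_maximal_iff L m y).2 hy)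
      exact tor_base m _ hle s hs hsm n h
    | succ k ih =>
      obtain ⟨i, hi⟩ : ∃ i, rs.length - (k + 1) = i := ⟨_, rfl⟩
      have hik : rs.length - k = i + 1 := by omega
      have hir : i < rs.length := by omega
      have hsucc : I (i + 1) = I i ⊔ Ideal.span {t i} := by
        simp only [I]
        rw [← Ideal.span_union, ← Set.image_singleton, ← Set.image_union]
        congr 2
        ext l
        simp only [Set.mem_union, Set.mem_setOf_eq, Set.mem_singleton_iff]
        omega
      obtain ⟨s, hs, hreg⟩ := exists_uniform m (I i) (K := Submodule.comap (LinearMap.mulLeft A (t i)) (I i))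
        fun y hy => exists_mul_mem m _ y (by
          have h1 : f (t i) * f y ∈ Ideal.ofList (rs.take i) := by
            rw [← hI i hir.le, ← map_mul]
            exact Ideal.mem_map_of_mem f hy
          simp only [t, dif_pos hir, hnum'] at h1
          obtain ⟨u, hu⟩ := IsLocalization.map_units L (den ⟨i, hir⟩)
          rw [show f (den ⟨i, hir⟩ : A) = (u : L) from hu.symm, mul_right_comm,
            Ideal.mul_unit_mem_iff_mem _ u.isUnit] at h1
          rw [hI i hir.le]
          have h2 := ((RingTheory.Sequence.isWeaklyRegular_iff L rs).1 hrs.toIsWeaklyRegular i hir)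
          have h3 := h2.right_eq_zero_of_smul (x := Submodule.Quotient.mk (f y)) (by
            rw [← Submodule.Quotient.mk_smul, Submodule.Quotient.mk_eq_zero, Ideal.smul_eq_mul, Ideal.mul_top,
              smul_eq_mul]
            exact h1)
          rwa [Submodule.Quotient.mk_eq_zero, Ideal.smul_eq_mul, Ideal.mul_top] at h3)
      rw [hi]
      refine tor_step m hge hfin (I i) (t i) (htm i) s hs (fun y hy => hreg y hy) _ ?_
      rw [← hsucc, ← hik, show n - ((k + 1 : ℕ) : ℤ) + 1 = n - (k : ℤ) by push_cast; ring]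
      exact ih (by omega)
  have h0 := main d hlen.ge
  rw [hlen, Nat.sub_self, show I 0 = ⊥ from by simp [I]] at h0
  exact Tor.of_injective (extHL R (n - d)).symm.toLinearMap (extHL R (n - d)).symm.injective
    (ExtVanLib.tor_ext_congr R (Submodule.quotEquivOfEqBot (⊥ : Ideal A) rfl).symm.toModuleIso _ h0)

end KerBddLib.RegOrth
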