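import Groth.Agent.Dual3Lib.PointOrthSch
import Groth.Agent.KerBddLib.RegOrth
import Groth.Agent.Dual3Lib.PointTest
import Groth.Agent.KoszOrthLib.Affine
import Groth.Agent.FinDualLib.Finite
import Groth.Agent.BidualSchLib.Chart
import Groth.Agent.TildeDerLib.Push
import Groth.Agent.KoszOrthLib.Aff

/-!
# Orthogonality in one degree at a regular point
-/

set_option autoImplicit false
set_option linter.style.haveILetI false
set_option backward.isDefEq.respectTransparency false
set_option backward.isDefEq.respectTransparency.types false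
set_option maxHeartbeats 1000000
set_option synthInstance.maxHeartbeats 200000

universe u

open CategoryTheory CategoryTheory.Limits AlgebraicGeometry
open DTenLib.Point (hH sg)

attribute [local instance] HasDerivedCategory.standard

noncomputable section

open Groth.Agent Groth.Agent.Dual3Lib

namespace KerBddLib

variable {X : Scheme.{u}}

/-- At a regular point of dimension `d`, orthogonality to the point sheaf in degree `l` kills the
cohomology in degree `l - d`. -/
theorem notMem_support_of_orth_deg [IsLocallyNoetherian X] {x : X} (hx : IsClosed ({x} : Set X))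
    [IsRegularLocalRing (X.presheaf.stalk x)] (d : ℕ) (hd : ringKrullDim (X.presheaf.stalk x) = d)
    {K : DCoh.D X} (hK : DCoh.IsCohD K) (a : ℤ) [K.IsGE a] (l : ℤ)
    (h : ∀ φ : DCoh.inD X (ptSheaf x) ⟶ K⟦l⟧, φ = 0) :
    x ∉ CohB1.support (DCoh.HD K (l - d)) := by
  obtain ⟨V, hV, hxV, -⟩ := exists_isAffineOpen_mem_and_subset (x := x) (U := (⊤ : X.Opens)) trivial
  let A := Γ(X, V)
  let j := hV.fromSpec
  have hrange : Set.range j = (V : Set X) := hV.range_fromSpec
  haveI : IsLocallyNoetherian (Spec A) := isLocallyNoetherian_of_isOpenImmersion j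
  haveI : IsNoetherianRing A := (isLocallyNoetherian_Spec).1 inferInstance
  haveI : PreservesFiniteLimits (tilde.functor A) := HensSchLib.tilde_preservesFiniteLimits _
  obtain ⟨m, hm, p, hp, rfl, ⟨ept⟩⟩ := nonempty_restrict_ptSheaf j hx (hrange ▸ hxV)
  let m := (p : PrimeSpectrum A).asIdeal
  let RD := DCoh.restrictD j
  have hq : DCoh.IsQCohD (RD.obj K) := KoszOrthLib.isQCohD_restrictD j fun l => (hK l).1
  obtain ⟨M, ⟨eM⟩⟩ := (TildeDerLib.isQCohD_iff A (RD.obj K)).1 hq
  have eH : ∀ l, (tilde.functor A).obj ((hH A l).obj M) ≅ (Scheme.Modules.restrictFunctor j).obj (DCoh.HD K l) :=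
    fun l => (TildeDerLib.tildeHIso A l M).symm ≪≫ (DerivedCategory.homologyFunctor _ l).mapIso eM ≪≫
      DCohRestrLib.restrictHDIso j K l
  have hfin : ∀ l, Module.Finite A ((hH A l).obj M) := fun l =>
    BidualSchLib.finite_of_isCoh_tilde (QCohLib.isCoh_of_iso (eH l).symm
      (ConsLib.isCoh_pullback j (hK l) |> QCohLib.isCoh_of_iso
        ((Scheme.Modules.restrictFunctorIsoPullback j).app _).symm))
  haveI : (tilde.functor A).Faithful := (tilde.adjunction (R := A)).fullyFaithfulLOfIsIsoUnit.faithful
  have hge : M.IsGE a := (DerivedCategory.isGE_iff M a).2 fun l hl => by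
    have : IsZero ((tilde.functor A).obj ((DTenLib.Point.hH A l).obj M)) :=
      ((Scheme.Modules.restrictFunctor j).map_isZero (DerivedCategory.isZero_of_isGE K a l hl)).of_iso (eH l)
    rw [IsZero.iff_id_eq_zero] at this ⊢
    refine (tilde.functor A).map_injective ?_
    rw [CategoryTheory.Functor.map_id, Functor.map_zero]
    exact this
  have hTD := KoszOrthLib.full_tD (A := A)
  let N := ModuleCat.of A (A ⧸ m)
  let eS : RD.obj (DCoh.inD X (ptSheaf x)) ≅ (DCoh.tildeD A).obj (sg N 0) :=
    ((Scheme.Modules.restrictFunctor j).mapDerivedCategorySingleFunctor 0).app (ptSheaf x) ≪≫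
      (DerivedCategory.singleFunctor _ 0).mapIso ept ≪≫
      (((tilde.functor A).mapDerivedCategorySingleFunctor 0).app N).symm
  have hext : Subsingleton (DualCxLib.Ext M N l) := by
    refine subsingleton_of_forall_eq 0 fun f => ?_
    let eT : (DCoh.tildeD A).obj (M⟦l⟧) ≅ RD.obj (K⟦l⟧) :=
      ((DCoh.tildeD A).commShiftIso l).app M ≪≫ (shiftFunctor _ l).mapIso eM ≪≫
        ((RD.commShiftIso l).app K).symm
    have hsupp : ∀ q, CohB1.support (DCoh.HD (DCoh.inD X (ptSheaf x)) q) ⊆ {x} := fun q y hy => by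
      refine support_HD_inD_shift hx 0 q (fun hs => hy ?_)
      exact (DCohRestrLib.subsingleton_stalk_of_iso ((DerivedCategory.homologyFunctor X.Modules q).mapIso
        ((shiftFunctorZero (DCoh.D X) ℤ).app _)) y).1 hs
    obtain ⟨ψ, hψ⟩ := (bijective_restrictD j hx (hrange ▸ Set.singleton_subset_iff.2 hxV) _ hsupp (K⟦l⟧)).2
      (eS.hom ≫ (DCoh.tildeD A).map f ≫ eT.hom)
    rw [h ψ] at hψ
    dsimp only at hψ
    rw [Functor.map_zero] at hψ
    haveI : (DCoh.tildeD A).Faithful := inferInstanceAs (KoszOrthLib.tD A).Faithful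
    refine (DCoh.tildeD A).map_injective ?_
    rw [Functor.map_zero, ← cancel_epi eS.hom, ← cancel_mono eT.hom, Category.assoc, ← hψ, comp_zero, zero_comp]
  haveI := hm
  let e : X.presheaf.stalk x ≃+* Localization.AtPrime m :=
    ((X.presheaf.stalkCongr (.of_eq hp.symm)).commRingCatIsoToRingEquiv.trans
      (asIso (j.stalkMap p)).commRingCatIsoToRingEquiv).trans
      (IsLocalization.algEquiv m.primeCompl ((Spec.structureSheaf A).presheaf.stalk p)
        (Localization.AtPrime m)).toRingEquiv
  haveI : IsRegularLocalRing (Localization.AtPrime m) := IsRegularLocalRing.of_ringEquiv e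
  have htor := KerBddLib.RegOrth.tor_homology_sub_dim m d ((ringKrullDim_eq_of_ringEquiv e).symm.trans hd)
    hge hfin l (fun f => ⟨1, one_mem _, Subsingleton.elim _ _⟩)
  intro hxs
  have h0 : Subsingleton ((tilde ((DTenLib.Point.hH A (l - d)).obj M)).presheaf.stalk p) :=
    (KoszOrthLib.subsingleton_stalk_tilde_iff (R := A) _ p).2 fun v => by
      obtain ⟨r, hr, hrv⟩ := htor v
      exact ⟨r, hr, hrv⟩
  have h1 := (DCohRestrLib.subsingleton_stalk_of_iso (eH (l - d)) p).1 h0
  have h2 := (DCohRestrLib.subsingleton_stalk_restrict j (DCoh.HD K (l - d)) p).1 h1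
  rw [hp] at h2
  exact hxs h2

end KerBddLib
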